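import Groth.Prelude.Def_SpSeq
import Mathlib.Algebra.Homology.ShortComplex.HomologicalComplex
import Mathlib.CategoryTheory.Abelian.Basic

/-!
# Spectral sequences with vanishing low rows
-/

universe v u

open CategoryTheory CategoryTheory.Limits

namespace Groth.Agent.H1SSEdge

variable {C : Type u} [Category.{v} C] [Abelian C] (E : E₂CohomologicalSpectralSequence C)

theorem isZero_page (pq : ℤ × ℤ) (h : IsZero ((E.page 2 le_rfl).X pq)) :
    ∀ (r : ℤ) (hr : 2 ≤ r), IsZero ((E.page r hr).X pq) := by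
  intro r hr
  induction r, hr using Int.le_induction with
  | base => exact h
  | succ r hr ih =>
    exact IsZero.of_iso ((ShortComplex.exact_iff_isZero_homology _).1 (ShortComplex.exact_of_isZero_X₂ ((E.page r hr).sc pq) ih))
      (E.iso r (r + 1) pq rfl hr).symm

theorem nonempty_page_iso_two (pq : ℤ × ℤ)
    (hin : ∀ r : ℤ, 2 ≤ r → IsZero ((E.page 2 le_rfl).X (pq - (r, 1 - r))))
    (hout : ∀ r : ℤ, 2 ≤ r → IsZero ((E.page 2 le_rfl).X (pq + (r, 1 - r)))) :
    ∀ (r : ℤ) (hr : 2 ≤ r), Nonempty ((E.page r hr).X pq ≅ (E.page 2 le_rfl).X pq) := by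
  intro r hr
  induction r, hr using Int.le_induction with
  | base => exact ⟨Iso.refl _⟩
  | succ r hr ih =>
    obtain ⟨e⟩ := ih
    let K := E.page r hr
    have hp : (ComplexShape.up' (⟨r, 1 - r⟩ : ℤ × ℤ)).prev pq = pq - (r, 1 - r) :=
      ComplexShape.prev_eq' _ (by simp)
    have hn : (ComplexShape.up' (⟨r, 1 - r⟩ : ℤ × ℤ)).next pq = pq + (r, 1 - r) :=
      ComplexShape.next_eq' _ (by simp)
    exact ⟨(E.iso r (r + 1) pq rfl hr).symm ≪≫
      (K.isoHomologyπ (pq - (r, 1 - r)) pq hp ((isZero_page E _ (hin r hr) r hr).eq_of_src _ _)).symm ≪≫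
      K.iCyclesIso pq (pq + (r, 1 - r)) hn ((isZero_page E _ (hout r hr) r hr).eq_of_tgt _ _) ≪≫ e⟩

theorem fil_succ_eq {X : C} (F : ℤ → Subobject X) (hF : Antitone F) (p : ℤ) (h : IsZero (SpSeq.grPiece F hF p)) :
    F (p + 1) = F p := by
  let ι := (F (p + 1)).ofLE (F p) (hF (Int.le_add_one le_rfl))
  haveI : Epi ι := Preadditive.epi_of_cokernel_zero (h.eq_of_tgt _ _)
  haveI : IsIso ι := isIso_of_mono_of_epi ι
  exact Subobject.eq_of_comm (asIso ι) (Subobject.ofLE_arrow _)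

theorem fil_bot {X : C} (F : ℤ → Subobject X) (hF : Antitone F) (a : ℤ) (hb : ∃ b, F b = ⊥)
    (h : ∀ p, a ≤ p → IsZero (SpSeq.grPiece F hF p)) : F a = ⊥ := by
  obtain ⟨b, hb⟩ := hb
  rcases le_or_gt b a with hle | hlt
  · exact le_bot_iff.1 (hb ▸ hF hle)
  · have : ∀ p, a ≤ p → F p = F a := fun p hp => by
      induction p, hp using Int.le_induction with
      | base => rfl
      | succ p hp ih => rw [fil_succ_eq F hF p (h p hp), ih]
    rw [← this b hlt.le, hb]

theorem fil_top {X : C} (F : ℤ → Subobject X) (hF : Antitone F) (a : ℤ) (hb : ∃ b, F b = ⊤)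
    (h : ∀ p, p < a → IsZero (SpSeq.grPiece F hF p)) : F a = ⊤ := by
  obtain ⟨b, hb⟩ := hb
  rcases le_or_gt a b with hle | hlt
  · exact top_le_iff.1 (hb ▸ hF hle)
  · have : ∀ p, b ≤ p → p ≤ a → F p = F b := fun p hp => by
      induction p, hp using Int.le_induction with
      | base => exact fun _ => rfl
      | succ p hp ih => exact fun hpa => by rw [fil_succ_eq F hF p (h p (by omega)), ih (by omega)]
    rw [this a hlt.le le_rfl, hb]

/-- A one-step filtration has the object as its graded piece. -/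
theorem nonempty_grPiece_iso {X : C} (F : ℤ → Subobject X) (hF : Antitone F) (p : ℤ)
    (h1 : F (p + 1) = ⊥) (h0 : F p = ⊤) : Nonempty (SpSeq.grPiece F hF p ≅ X) := by
  have hι : (F (p + 1)).ofLE (F p) (hF (Int.le_add_one le_rfl)) = 0 := by
    rw [← cancel_mono (F p).arrow, Subobject.ofLE_arrow, zero_comp]
    generalize F (p + 1) = S at h1
    subst h1
    exact Subobject.bot_arrow
  haveI : IsIso (F p).arrow := (Subobject.isIso_arrow_iff_eq_top _).2 h0
  exact ⟨cokernelIsoOfEq hι ≪≫ cokernelZeroIsoTarget ≪≫ asIso (F p).arrow⟩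

/-- If the rows below `d` vanish and there is nothing to the left, then `H^d ≅ E_2^{0,d}`. -/
theorem nonempty_iso_corner {H : ℤ → C} (a : SpSeq.Abutment E H) (d : ℤ) (hfin : a.IsFinite d)
    (hneg : ∀ p q : ℤ, p < 0 → IsZero ((E.page 2 le_rfl).X (p, q)))
    (hlow : ∀ p q : ℤ, q < d → IsZero ((E.page 2 le_rfl).X (p, q))) :
    Nonempty (H d ≅ (E.page 2 le_rfl).X (0, d)) := by
  have hgr : ∀ p : ℤ, p ≠ 0 → IsZero (SpSeq.grPiece (a.fil d) (a.anti d) p) := fun p hp => by
    have key : ∀ n (hn : p + (d - p) = n), IsZero (SpSeq.grPiece (a.fil n) (a.anti n) p) := fun n hn => by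
      subst hn
      refine IsZero.of_iso (isZero_page E _ ?_ _ _) (a.β (p, d - p)).symm
      rcases lt_or_gt_of_ne hp with h | h
      · exact hneg _ _ h
      · exact hlow _ _ (by omega)
    exact key d (by omega)
  have h1 : a.fil d (0 + 1) = ⊥ := fil_bot _ (a.anti d) _ hfin.2 fun p hp => hgr p (by omega)
  have h0 : a.fil d 0 = ⊤ := fil_top _ (a.anti d) _ hfin.1 fun p hp => hgr p (by omega)
  obtain ⟨e1⟩ := nonempty_grPiece_iso _ (a.anti d) 0 h1 h0
  obtain ⟨e2⟩ := nonempty_page_iso_two E (0, d)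
    (fun r hr => hneg _ _ (by show (0 : ℤ) - r < 0; omega))
    (fun r hr => hlow _ _ (by show d + (1 - r) < d; omega)) (a.rk (0, d)) (a.stat (0, d)).1
  have e3 : ∀ n, n = d → (SpSeq.grPiece (a.fil d) (a.anti d) 0 ≅ SpSeq.grPiece (a.fil n) (a.anti n) 0) := fun n hn =>
    eqToIso (by subst hn; rfl)
  exact ⟨e1.symm ≪≫ e3 _ (by simp) ≪≫ (a.β (0, d)).symm ≪≫ e2⟩

end Groth.Agent.H1SSEdge
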